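import Mathlib
set_option linter.all false

/-!
# Subgroups of order `p` of a cyclic `p`-group

* `le_zpowers`: the subgroup of order `p` of a cyclic `p`-group `D` is contained in every nontrivial
  cyclic subgroup of `D`;
* `eq_one_of_conj_mem`: `g ∉ N(Q)`, `d ∈ D ∩ D^g` gives `d = 1`;
* `mem_centralizer_of_commute`: an element commuting with `1 ≠ d ∈ D` centralizes `Q`;
* `exists_cyclic_gen`, `not_dvd_relIndex`, `comm_mem`: the quotient `T / C_G(Q)`, `T ≤ N_G(Q)`.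
-/

set_option autoImplicit false

namespace Cfsg.Agent.H653.CycGroup

variable {G : Type*} [Group G] [Finite G] {p : ℕ} [Fact p.Prime]

theorem exists_pow_orderOf {D : Subgroup G} (hD : IsPGroup p D) {d : G} (hd : d ∈ D) (hd1 : d ≠ 1) :
    ∃ k : ℕ, orderOf (d ^ k) = p := by
  have hp : p.Prime := Fact.out
  obtain ⟨n, hn⟩ := (IsPGroup.iff_orderOf.mp hD) ⟨d, hd⟩
  have hn' : orderOf d = p ^ n := by rw [← hn, Subgroup.orderOf_mk]
  have hn0 : n ≠ 0 := by
    rintro rfl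
    rw [pow_zero, orderOf_eq_one_iff] at hn'
    exact hd1 hn'
  refine ⟨p ^ (n - 1), ?_⟩
  rw [orderOf_pow, hn', Nat.gcd_eq_right (pow_dvd_pow p (Nat.sub_le n 1)),
    Nat.pow_div (Nat.sub_le n 1) hp.pos, show n - (n - 1) = 1 by omega, pow_one]

/-- Two subgroups of order `p` of a cyclic group are equal. -/
theorem eq_of_card_eq {D : Subgroup G} (hc : IsCyclic D) {Q R : Subgroup G} (hQD : Q ≤ D)
    (hRD : R ≤ D) (hQ : Nat.card Q = p) (hR : Nat.card R = p) : Q = R := by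
  classical
  have := Fintype.ofFinite D
  have hp : p.Prime := Fact.out
  have h2 := IsCyclic.card_pow_eq_one_le (α := D) hp.pos
  have key : ∀ {S : Subgroup G}, S ≤ D → Nat.card S = p →
      (Finset.univ.filter fun a : D => (a : G) ∈ S) = (Finset.univ.filter fun a : D => a ^ p = 1) := by
    intro S hSD hS
    apply Finset.eq_of_subset_of_card_le
    · intro a ha
      rw [Finset.mem_filter] at ha ⊢
      refine ⟨Finset.mem_univ _, ?_⟩
      have h3 := pow_card_eq_one' (G := S) (x := ⟨a, ha.2⟩)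
      rw [hS] at h3
      exact Subtype.ext (by simpa using congrArg Subtype.val h3)
    · have h4 : (Finset.univ.filter fun a : D => (a : G) ∈ S).card = p := by
        rw [← Fintype.card_subtype, ← Nat.card_eq_fintype_card, ← hS]
        exact Nat.card_congr ⟨fun a => ⟨a.1.1, a.2⟩, fun a => ⟨⟨a.1, hSD a.2⟩, a.2⟩,
          fun _ => rfl, fun _ => rfl⟩
      rw [h4]
      exact h2
  have hQR := (key hQD hQ).trans (key hRD hR).symm
  ext x
  constructor
  · intro hx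
    have h5 : (⟨x, hQD hx⟩ : D) ∈ Finset.univ.filter fun a : D => (a : G) ∈ Q :=
      Finset.mem_filter.mpr ⟨Finset.mem_univ _, hx⟩
    rw [hQR] at h5
    exact (Finset.mem_filter.mp h5).2
  · intro hx
    have h5 : (⟨x, hRD hx⟩ : D) ∈ Finset.univ.filter fun a : D => (a : G) ∈ R :=
      Finset.mem_filter.mpr ⟨Finset.mem_univ _, hx⟩
    rw [← hQR] at h5
    exact (Finset.mem_filter.mp h5).2

theorem le_zpowers {D Q : Subgroup G} (hD : IsPGroup p D) (hc : IsCyclic D) (hQD : Q ≤ D)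
    (hQ : Nat.card Q = p) {d : G} (hd : d ∈ D) (hd1 : d ≠ 1) : Q ≤ Subgroup.zpowers d := by
  obtain ⟨k, hk⟩ := exists_pow_orderOf hD hd hd1
  have h1 : Q = Subgroup.zpowers (d ^ k) := eq_of_card_eq hc hQD
    (by rw [Subgroup.zpowers_le]; exact D.pow_mem hd k) hQ (by rw [Nat.card_zpowers, hk])
  rw [h1, Subgroup.zpowers_le]
  exact Subgroup.npow_mem_zpowers d k

theorem eq_one_of_conj_mem {D Q : Subgroup G} (hD : IsPGroup p D) (hc : IsCyclic D) (hQD : Q ≤ D)
    (hQ : Nat.card Q = p) {g : G} (hg : g ∉ Subgroup.normalizer (Q : Set G)) {d : G} (hd : d ∈ D)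
    (hgd : g⁻¹ * d * g ∈ D) : d = 1 := by
  by_contra hd1
  apply hg
  have h1 := le_zpowers hD hc hQD hQ hd hd1
  have h2 := le_zpowers hD hc hQD hQ hgd (fun h => hd1 (by
    have h3 : d = g * (g⁻¹ * d * g) * g⁻¹ := by group
    rw [h3, h, mul_one, mul_inv_cancel]))
  have h3 : Q.map (MulAut.conj g).toMonoidHom ≤ D := by
    rintro x ⟨q, hq, rfl⟩
    obtain ⟨k, hk⟩ := Subgroup.mem_zpowers_iff.mp (h2 hq)
    have h4 : (MulAut.conj g).toMonoidHom q = d ^ k := by
      rw [← hk]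
      show g * (g⁻¹ * d * g) ^ k * g⁻¹ = d ^ k
      rw [← conj_zpow]
      congr 1
      group
    rw [h4]
    exact D.zpow_mem hd k
  have h5 : Nat.card (Q.map (MulAut.conj g).toMonoidHom) = p := by
    rw [← hQ]
    exact (Nat.card_congr (Q.equivMapOfInjective _ (MulAut.conj g).injective).toEquiv).symm
  have h6 := eq_of_card_eq hc hQD h3 hQ h5
  rw [Subgroup.mem_normalizer_iff]
  intro x
  constructor
  · intro hx
    have h7 : g * x * g⁻¹ ∈ Q.map (MulAut.conj g).toMonoidHom := ⟨x, hx, rfl⟩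
    rwa [← h6] at h7
  · intro hx
    have hx' : g * x * g⁻¹ ∈ Q.map (MulAut.conj g).toMonoidHom := h6 ▸ hx
    obtain ⟨y, hy, hyx⟩ := hx'
    have h7 : g * y * g⁻¹ = g * x * g⁻¹ := hyx
    have h8 : y = x := mul_left_cancel (mul_right_cancel h7)
    exact h8 ▸ hy

theorem mem_centralizer_of_commute {D Q : Subgroup G} (hD : IsPGroup p D) (hc : IsCyclic D)
    (hQD : Q ≤ D) (hQ : Nat.card Q = p) {d : G} (hd : d ∈ D) (hd1 : d ≠ 1) {g : G}
    (hg : d * g = g * d) : g ∈ Subgroup.centralizer (Q : Set G) := by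
  rw [Subgroup.mem_centralizer_iff]
  intro q hq
  obtain ⟨k, rfl⟩ := Subgroup.mem_zpowers_iff.mp (le_zpowers hD hc hQD hQ hd hd1 hq)
  exact (show Commute d g from hg).zpow_left k

omit [Finite G] in
/-- `C_G(Q)` is normalized by `N_G(Q)`. -/
theorem conj_mem_centralizer {Q : Subgroup G} {t : G} (ht : t ∈ Subgroup.normalizer (Q : Set G))
    {c : G} (hc : c ∈ Subgroup.centralizer (Q : Set G)) :
    t * c * t⁻¹ ∈ Subgroup.centralizer (Q : Set G) := by
  rw [Subgroup.mem_centralizer_iff] at hc ⊢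
  intro q hq
  have h1 : t⁻¹ * q * t ∈ Q := (Subgroup.mem_normalizer_iff''.1 ht q).1 hq
  have h2 := hc _ h1
  calc q * (t * c * t⁻¹) = t * (t⁻¹ * q * t * c) * t⁻¹ := by group
    _ = t * (c * (t⁻¹ * q * t)) * t⁻¹ := by rw [h2]
    _ = t * c * t⁻¹ * q := by group

variable {Q T : Subgroup G}

/-- The homomorphism to the automorphism group of `Q`, which is cyclic. -/
theorem exists_hom (hQ : Nat.card Q = p) (hT : T ≤ Subgroup.normalizer (Q : Set G)) :
    ∃ (A : Type) (_ : Group A) (_ : IsCyclic A) (_ : Finite A) (f : T →* A), Nat.card A = p - 1 ∧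
      ∀ t : T, f t = 1 ↔ (t : G) ∈ Subgroup.centralizer (Q : Set G) := by
  have hp : p.Prime := Fact.out
  have hZc : IsCyclic Q := isCyclic_of_prime_card hQ
  let e2 : MulAut Q ≃* (ZMod (Nat.card Q))ˣ := IsCyclic.mulAutMulEquiv Q
  have hcyc2 : IsCyclic (ZMod (Nat.card Q))ˣ := by rw [hQ]; infer_instance
  have hfin : Finite (ZMod (Nat.card Q))ˣ := by rw [hQ]; infer_instance
  refine ⟨(ZMod (Nat.card Q))ˣ, inferInstance, hcyc2, hfin, e2.toMonoidHom.comp
    (Q.normalizerMonoidHom.comp (Subgroup.inclusion hT)), ?_, fun t => ?_⟩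
  · rw [hQ, Nat.card_eq_fintype_card, ZMod.card_units]
  · rw [MonoidHom.comp_apply]
    show e2 _ = 1 ↔ _
    rw [EmbeddingLike.map_eq_one_iff, MonoidHom.comp_apply, ← MonoidHom.mem_ker,
      Subgroup.normalizerMonoidHom_ker, Subgroup.mem_subgroupOf, Subgroup.coe_inclusion]

theorem exists_gen (hQ : Nat.card Q = p) (hT : T ≤ Subgroup.normalizer (Q : Set G)) :
    ∃ t₀ ∈ T, ∀ t ∈ T, ∃ i : ℤ, (t₀ ^ i)⁻¹ * t ∈ Subgroup.centralizer (Q : Set G) := by
  obtain ⟨A, _, _, _, f, -, hf⟩ := exists_hom hQ hT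
  obtain ⟨⟨a, ⟨t₀, rfl⟩⟩, ha⟩ := (inferInstance : IsCyclic f.range).exists_generator
  refine ⟨t₀, t₀.2, fun t ht => ?_⟩
  obtain ⟨i, hi⟩ := Subgroup.mem_zpowers_iff.mp (ha ⟨f ⟨t, ht⟩, ⟨_, rfl⟩⟩)
  refine ⟨i, ?_⟩
  have h1 : f ((t₀ ^ i)⁻¹ * ⟨t, ht⟩) = 1 := by
    rw [map_mul, map_inv, map_zpow]
    have h2 : f t₀ ^ i = f ⟨t, ht⟩ := by simpa using congrArg Subtype.val hi
    rw [h2, inv_mul_cancel]
  have h3 := (hf _).mp h1
  simpa using h3

theorem comm_mem (hQ : Nat.card Q = p) (hT : T ≤ Subgroup.normalizer (Q : Set G)) :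
    ∀ s ∈ T, ∀ t ∈ T, s * t * s⁻¹ * t⁻¹ ∈ Subgroup.centralizer (Q : Set G) := by
  obtain ⟨A, _, hA, _, f, -, hf⟩ := exists_hom hQ hT
  intro s hs t ht
  letI : CommGroup A := IsCyclic.commGroup
  have h1 : f (⟨s, hs⟩ * ⟨t, ht⟩ * ⟨s, hs⟩⁻¹ * ⟨t, ht⟩⁻¹) = 1 := by
    rw [map_mul, map_mul, map_mul, map_inv, map_inv]
    rw [mul_comm (f ⟨s, hs⟩), mul_inv_cancel_right, mul_inv_cancel]
  have h3 := (hf _).mp h1
  simpa using h3

theorem relIndex_dvd (hQ : Nat.card Q = p) (hT : T ≤ Subgroup.normalizer (Q : Set G)) :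
    (Subgroup.centralizer (Q : Set G)).relIndex T ∣ p - 1 := by
  obtain ⟨A, _, _, _, f, hA, hf⟩ := exists_hom hQ hT
  have h1 : f.ker = (Subgroup.centralizer (Q : Set G)).subgroupOf T := by
    ext t
    rw [MonoidHom.mem_ker, hf, Subgroup.mem_subgroupOf]
  rw [Subgroup.relIndex, ← h1, Subgroup.index_ker, ← hA]
  exact Subgroup.card_subgroup_dvd_card f.range

theorem not_dvd_relIndex (hQ : Nat.card Q = p) (hT : T ≤ Subgroup.normalizer (Q : Set G)) :
    ¬ p ∣ (Subgroup.centralizer (Q : Set G)).relIndex T := by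
  have hp : p.Prime := Fact.out
  intro h
  have h1 := h.trans (relIndex_dvd hQ hT)
  have h2 : 0 < p - 1 := by have := hp.one_lt; omega
  have h3 := Nat.le_of_dvd h2 h1
  omega

end Cfsg.Agent.H653.CycGroup
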